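/-
A scheme receiving `U` by an epimorphism of sheaves whose kernel pair is covered by `R` is the
quotient sheaf `U/R`.
-/
import Groth.Prelude.Def_QuotSh
import Mathlib.CategoryTheory.Sites.RegularEpi
import Mathlib.CategoryTheory.Limits.Preserves.Shapes.Pullbacks

set_option autoImplicit false
set_option backward.isDefEq.respectTransparency false
set_option backward.isDefEq.respectTransparency.types false

universe u

open CategoryTheory CategoryTheory.Limits AlgebraicGeometry

namespace QuotEpiLib

variable (K : Precoverage Scheme.{u}) (S : Scheme.{u})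

/-- The functor sending a scheme to the sheaf it represents. -/
noncomputable abbrev repFun : Over S ⥤ QuotSh.Sh K S :=
  yoneda ⋙ (Functor.whiskeringRight _ _ _).obj uliftFunctor.{u + 1, u} ⋙
    presheafToSheaf (QuotSh.J K S) (Type (u + 1))

variable {K S}

theorem repMap_eq {V W : Over S} (g : V ⟶ W) : QuotSh.repMap K g = (repFun K S).map g := rfl

theorem isQuotient_of_epi {R U M : Over S} (s t : R ⟶ U) (q : U ⟶ M) (w : s ≫ q = t ≫ q)
    (h₂ : Epi (QuotSh.repMap K q)) {P : Over S} (p₁ p₂ : P ⟶ U) (hP : IsPullback p₁ p₂ q q)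
    (φ : R ⟶ P) (hφ₁ : φ ≫ p₁ = t) (hφ₂ : φ ≫ p₂ = s) (h₃ : Epi (QuotSh.repMap K φ)) :
    QuotSh.IsQuotient K s t q := by
  refine ⟨w, ?_⟩
  have sq' := hP.map (repFun K S)
  have : Epi ((repFun K S).map q) := h₂
  have : IsRegularEpiCategory (QuotSh.Sh K S) :=
    inferInstanceAs (IsRegularEpiCategory (Sheaf _ _))
  have : IsRegularEpi ((repFun K S).map q) := IsRegularEpiCategory.regularEpiOfEpi _
  have : EffectiveEpi ((repFun K S).map q) := inferInstance
  have hc := isColimitCoforkOfEffectiveEpi ((repFun K S).map q) sq'.cone sq'.isLimit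
  have : Epi ((repFun K S).map φ) := h₃
  have hq : (repFun K S).map p₁ ≫ QuotSh.quotπ K s t =
      (repFun K S).map p₂ ≫ QuotSh.quotπ K s t := by
    rw [← cancel_epi ((repFun K S).map φ)]
    rw [← Category.assoc, ← Category.assoc, ← Functor.map_comp, ← Functor.map_comp, hφ₁, hφ₂]
    exact (QuotSh.quot_condition K s t).symm
  let e : QuotSh.rep K M ⟶ QuotSh.quot K s t := hc.desc (Cofork.ofπ (QuotSh.quotπ K s t) hq)
  have hrep : QuotSh.repMap K q ≫ e = QuotSh.quotπ K s t :=
    hc.fac _ WalkingParallelPair.one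
  refine ⟨⟨e, ?_, ?_⟩⟩
  · refine coequalizer.hom_ext ?_
    show coequalizer.π _ _ ≫ QuotSh.quotDesc K q w ≫ e = _
    rw [← Category.assoc, show coequalizer.π (QuotSh.repMap K s) (QuotSh.repMap K t) ≫
      QuotSh.quotDesc K q w = QuotSh.repMap K q from coequalizer.π_desc _ _, hrep]
    exact (Category.comp_id _).symm
  · rw [← cancel_epi (QuotSh.repMap K q), reassoc_of% hrep, Category.comp_id]
    exact coequalizer.π_desc _ _

theorem isQuotient_of_epi_repMap (K : Precoverage Scheme.{u}) {S : Scheme.{u}} {R U M : Over S}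
    (s t : R ⟶ U) (q : U ⟶ M) (w : s ≫ q = t ≫ q) (w' : t.left ≫ q.left = s.left ≫ q.left)
    (h₂ : Epi (QuotSh.repMap K q))
    (h₃ : Epi (QuotSh.repMap K (Over.homMk (pullback.lift t.left s.left w')
      (((Category.assoc _ _ _).symm.trans
        (congrArg (fun k => k ≫ U.hom) (pullback.lift_fst t.left s.left w'))).trans (Over.w t)) :
        R ⟶ Over.mk (pullback.fst q.left q.left ≫ U.hom)))) :
    QuotSh.IsQuotient K s t q := by
  have hsnd : pullback.snd q.left q.left ≫ U.hom = pullback.fst q.left q.left ≫ U.hom := by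
    rw [← Over.w q, ← Category.assoc, ← pullback.condition, Category.assoc]
  let p₁ : Over.mk (pullback.fst q.left q.left ≫ U.hom) ⟶ U :=
    Over.homMk (pullback.fst q.left q.left) rfl
  let p₂ : Over.mk (pullback.fst q.left q.left ≫ U.hom) ⟶ U :=
    Over.homMk (pullback.snd q.left q.left) hsnd
  have hP : IsPullback p₁ p₂ q q :=
    IsPullback.of_map (Over.forget S) (Over.OverMorphism.ext pullback.condition)
      (IsPullback.of_hasPullback q.left q.left)
  exact isQuotient_of_epi s t q w h₂ p₁ p₂ hP _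
    (Over.OverMorphism.ext (pullback.lift_fst _ _ _))
    (Over.OverMorphism.ext (pullback.lift_snd _ _ _)) h₃

end QuotEpiLib
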